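import Cfsg.Agent.Mrg.Omega.NO3S.Act.PasCore
import Cfsg.Agent.Mrg.Omega.NOThreeL.Star

section


/-!
# GammaFF: passive types normalise the active line (THEOREM N, #21337 helper422), the abstract core

`(S, P)` active for `W = WW V F`, `L` its line, `Q = C_S(L)`, `P'` passive (`W ≤ O₂(P')`).

* `LRoot S L` : what is used of the FF type: a minimal offender `A ≤ S` on `L` acts as one full root group
  (transposition); it is determined by its centre `[L, A]`;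
* `Sit` : the situation at `S`;
* `Sit.cent_c` **(C)** : `t ∈ L ∩ L^g` moved by `W^s` ⟹ `W^s` centralises `[L^g, q]`, `q ∈ Q`.
-/

set_option autoImplicit false
set_option linter.unusedSectionVars false

namespace Cfsg.Agent.Omega.NO3S.NTwo

open Subgroup Cfsg Cfsg.Agent.Omega.NoFF.Basic
open Cfsg.Agent.Omega.NOne.Flat (Hyp EE WW NN BadX)
open Cfsg.Agent.Omega.NOThreeL.Low.Key (BH conj_eq_of_norm' norm_conj_mem c_eq_one' comm_of_c c_mem_left)
open Cfsg.Agent.Omega.NOThreeL.NF (MinOffM RP)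
open Cfsg.Agent.Omega.FFThm (ElemM OffM)
open Cfsg.Agent.ZN (o2)
open scoped Pointwise commutatorElement

universe u

local notation "cm" => Cfsg.Agent.Omega.NOne.NearFF.c

variable {G : Type u} [Group G]

/-- What is used of the FF type of the line `L` at `S`. -/
structure LRoot (S L : Subgroup G) : Prop where
  inj : ∀ A : Subgroup G, MinOffM L S A → ∀ v ∈ L, v ∉ centralizer (A : Set G) → ∀ a ∈ A, a * v = v * a →
    a ∈ centralizer (L : Set G)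
  surj : ∀ A : Subgroup G, MinOffM L S A → ∀ v ∈ L, v ∉ centralizer (A : Set G) → ∀ y ∈ ⁅L, A⁆,
    ∃ a ∈ A, a * v * a⁻¹ * v⁻¹ = y
  /-- (D') -/
  same : ∀ A B : Subgroup G, MinOffM L S A → MinOffM L S B → ⁅L, A⁆ = ⁅L, B⁆ → ∀ a ∈ A, ∃ b ∈ B,
    ∀ x ∈ L, a * x * a⁻¹ = b * x * b⁻¹
  conj : ∀ A B : Subgroup G, MinOffM L S A → MinOffM L S B → ∃ s ∈ S, ⁅L, B⁆ = MulAut.conj s • ⁅L, A⁆

/-- The situation at the chamber `S`: active type `P` with line `L`, passive type `P'`. -/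
structure Sit (S V F B P P' L : Subgroup G) : Prop extends BH V F B where
  SP : S ≤ P
  SP' : S ≤ P'
  PV : P ≤ normalizer (V : Set G)
  PV' : P' ≤ normalizer (V : Set G)
  PL : P ≤ normalizer (L : Set G)
  /-- `Q = C_S(L) = O₂(P)` -/
  PQ : P ≤ normalizer ((S ⊓ centralizer (L : Set G) : Subgroup G) : Set G)
  /-- `Q ≤ O₂(P')` -/
  QS : ∀ g ∈ P', S ⊓ centralizer (L : Set G) ≤ MulAut.conj g • S
  WS : WW V F ≤ S
  /-- `W ≤ O₂(P')` -/
  WS' : ∀ g ∈ P', MulAut.conj g • WW V F ≤ S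
  LV : L ≤ V
  /-- the lines `L^g`, `g ∈ P'`, are good -/
  LB : ∀ g ∈ P', MulAut.conj g • L ≤ B
  mov : ¬ WW V F ≤ centralizer (L : Set G)
  rt : LRoot S L
  dich : ∀ y ∈ P', ¬ MulAut.conj y • WW V F ≤ centralizer (L : Set G) → MinOffM L S (MulAut.conj y • WW V F)
  irr : ∀ X : Subgroup G, X ≤ V → P ≤ normalizer (X : Set G) → X ≠ ⊥ → L ≤ X
  cvq : V ⊓ centralizer ((S ⊓ centralizer (L : Set G) : Subgroup G) : Set G) ≤ L
  /-- `I = L F` -/
  I_eq : ∀ r ∈ V ⊓ B, ∃ l ∈ L, l⁻¹ * r ∈ F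

theorem mem_conj_smul {g x : G} {A : Subgroup G} (hx : x ∈ A) : g * x * g⁻¹ ∈ MulAut.conj g • A := by
  rw [mem_conj]
  have e : g⁻¹ * (g * x * g⁻¹) * g = x := by group
  rwa [e]

theorem mem_cent_conj {g x : G} {A : Subgroup G} :
    x ∈ centralizer ((MulAut.conj g • A : Subgroup G) : Set G) ↔ g⁻¹ * x * g ∈ centralizer (A : Set G) := by
  constructor
  · intro hx
    rw [mem_centralizer_iff]
    intro a ha
    have h1 := mem_centralizer_iff.1 hx _ (mem_conj_smul (g := g) ha)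
    calc a * (g⁻¹ * x * g) = g⁻¹ * (g * a * g⁻¹ * x) * g := by group
      _ = g⁻¹ * (x * (g * a * g⁻¹)) * g := by rw [h1]
      _ = g⁻¹ * x * g * a := by group
  · intro hx
    rw [mem_centralizer_iff]
    intro a ha
    have h1 := mem_centralizer_iff.1 hx _ (mem_conj.1 ha)
    calc a * x = g * (g⁻¹ * a * g * (g⁻¹ * x * g)) * g⁻¹ := by group
      _ = g * (g⁻¹ * x * g * (g⁻¹ * a * g)) * g⁻¹ := by rw [h1]
      _ = x * a := by group

namespace Sit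

variable {S V F B P P' L : Subgroup G} (h : Sit S V F B P P' L)
include h

theorem LB1 : L ≤ B := by
  have := h.LB 1 (one_mem _)
  rwa [map_one, one_smul] at this

theorem L_le_I : L ≤ V ⊓ B := le_inf h.LV h.LB1

theorem conjLV {g : G} (hg : g ∈ P') : MulAut.conj g • L ≤ V := by
  have h1 := (conj_le_iff (g := g)).2 h.LV
  rwa [conj_eq_of_norm' (h.PV' hg)] at h1

theorem B_cent_L : B ≤ centralizer (L : Set G) := comm_symm (h.LB1.trans h.abel)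

theorem B_le_Q : B ≤ S ⊓ centralizer (L : Set G) := le_inf (h.le_W.trans h.WS) h.B_cent_L

theorem W_min : MinOffM L S (WW V F) := by
  have := h.dich 1 (one_mem _)
  rw [map_one, one_smul] at this
  exact this h.mov

/-- elements of `Q` normalise `L^g`, `g ∈ P'` -/
theorem Q_norm {g : G} (hg : g ∈ P') {q : G} (hq : q ∈ S ⊓ centralizer (L : Set G)) :
    q ∈ normalizer ((MulAut.conj g • L : Subgroup G) : Set G) := by
  have h1 := mem_conj.1 (h.QS g hg hq)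
  have h2 := h.PL (h.SP h1)
  rw [mem_normalizer_iff]
  intro x
  rw [mem_conj, mem_conj, mem_normalizer_iff.1 h2]
  have e : g⁻¹ * q * g * (g⁻¹ * x * g) * (g⁻¹ * q * g)⁻¹ = g⁻¹ * (q * x * q⁻¹) * g := by group
  rw [e]

/-- **(C)** `t ∈ L ∩ L^g` is moved by `W^s` ⟹ `W^s` centralises `[L^g, q]`, `q ∈ Q = C_S(L)`. -/
theorem cent_c {g s t : G} (hg : g ∈ P') (hs : s ∈ S) (htL : t ∈ L) (htg : t ∈ MulAut.conj g • L)
    (ht : t ∉ centralizer ((MulAut.conj s • WW V F : Subgroup G) : Set G)) {q : G}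
    (hq : q ∈ S ⊓ centralizer (L : Set G)) {l : G} (hl : l ∈ MulAut.conj g • L) :
    (q * l * q⁻¹)⁻¹ * l ∈ centralizer ((MulAut.conj s • WW V F : Subgroup G) : Set G) := by
  have hqL : ∀ y ∈ L, q * y * q⁻¹ = y := fun y hy => by
    rw [← mem_centralizer_iff.1 hq.2 y hy, mul_inv_cancel_right]
  have hsP : ∀ w ∈ (MulAut.conj s • WW V F : Subgroup G), w ∈ S := fun w hw => by
    have h1 := h.WS (mem_conj.1 hw)
    have e : w = s * (s⁻¹ * w * s) * s⁻¹ := by group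
    rw [e]
    exact mul_mem (mul_mem hs h1) (inv_mem hs)
  -- the two conjugates of `W`
  have hy1 : g⁻¹ * s ∈ P' := mul_mem (inv_mem hg) (h.SP' hs)
  have hy2 : g⁻¹ * q * s ∈ P' := mul_mem (mul_mem (inv_mem hg) (h.SP' hq.1)) (h.SP' hs)
  set A : Subgroup G := MulAut.conj (g⁻¹ * s) • WW V F with hA
  set A' : Subgroup G := MulAut.conj (g⁻¹ * q * s) • WW V F with hA'
  have memA : ∀ w ∈ (MulAut.conj s • WW V F : Subgroup G), g⁻¹ * w * g ∈ A := fun w hw => by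
    rw [hA, mem_conj]
    have e : (g⁻¹ * s)⁻¹ * (g⁻¹ * w * g) * (g⁻¹ * s) = s⁻¹ * w * s := by group
    rw [e]
    exact mem_conj.1 hw
  have ofA : ∀ a ∈ A, g * a * g⁻¹ ∈ (MulAut.conj s • WW V F : Subgroup G) := fun a ha => by
    rw [hA, mem_conj] at ha
    rw [mem_conj]
    have e : (g⁻¹ * s)⁻¹ * a * (g⁻¹ * s) = s⁻¹ * (g * a * g⁻¹) * s := by group
    rwa [e] at ha
  have memA' : ∀ w ∈ (MulAut.conj s • WW V F : Subgroup G), g⁻¹ * (q * w * q⁻¹) * g ∈ A' := fun w hw => by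
    rw [hA', mem_conj]
    have e : (g⁻¹ * q * s)⁻¹ * (g⁻¹ * (q * w * q⁻¹) * g) * (g⁻¹ * q * s) = s⁻¹ * w * s := by group
    rw [e]
    exact mem_conj.1 hw
  have ofA' : ∀ a ∈ A', q⁻¹ * (g * a * g⁻¹) * q ∈ (MulAut.conj s • WW V F : Subgroup G) := fun a ha => by
    rw [hA', mem_conj] at ha
    rw [mem_conj]
    have e : (g⁻¹ * q * s)⁻¹ * a * (g⁻¹ * q * s) = s⁻¹ * (q⁻¹ * (g * a * g⁻¹) * q) * s := by group
    rwa [e] at ha
  -- `v = t^(g⁻¹)`
  set v : G := g⁻¹ * t * g with hv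
  have hvL : v ∈ L := mem_conj.1 htg
  have hvA : v ∉ centralizer (A : Set G) := by
    intro h1
    refine ht ?_
    rw [mem_centralizer_iff]
    intro w hw
    have h2 := mem_centralizer_iff.1 h1 _ (memA w hw)
    rw [hv] at h2
    calc w * t = g * (g⁻¹ * w * g * (g⁻¹ * t * g)) * g⁻¹ := by group
      _ = g * (g⁻¹ * t * g * (g⁻¹ * w * g)) * g⁻¹ := by rw [h2]
      _ = t * w := by group
  have hvA' : v ∉ centralizer (A' : Set G) := by
    intro h1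
    refine ht ?_
    rw [mem_centralizer_iff]
    intro w hw
    have h2 := mem_centralizer_iff.1 h1 _ (memA' w hw)
    rw [hv] at h2
    have h3 : q⁻¹ * t * q = t := by
      have := hqL t htL
      calc q⁻¹ * t * q = q⁻¹ * (q * t * q⁻¹) * q := by rw [this]
        _ = t := by group
    calc w * t = w * (q⁻¹ * t * q) := by rw [h3]
      _ = q⁻¹ * g * (g⁻¹ * (q * w * q⁻¹) * g * (g⁻¹ * t * g)) * g⁻¹ * q := by group
      _ = q⁻¹ * g * (g⁻¹ * t * g * (g⁻¹ * (q * w * q⁻¹) * g)) * g⁻¹ * q := by rw [h2]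
      _ = q⁻¹ * t * q * w := by group
      _ = t * w := by rw [h3]
  have hnA : ¬ A ≤ centralizer (L : Set G) := fun h1 => hvA (by
    rw [mem_centralizer_iff]
    exact fun a ha => (mem_centralizer_iff.1 (h1 ha) v hvL).symm)
  have hnA' : ¬ A' ≤ centralizer (L : Set G) := fun h1 => hvA' (by
    rw [mem_centralizer_iff]
    exact fun a ha => (mem_centralizer_iff.1 (h1 ha) v hvL).symm)
  have mA : MinOffM L S A := h.dich _ hy1 hnA
  have mA' : MinOffM L S A' := h.dich _ hy2 hnA'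
  -- `[w, t] ∈ L`
  have hwt : ∀ w ∈ (MulAut.conj s • WW V F : Subgroup G), w * t * w⁻¹ * t⁻¹ ∈ L := fun w hw =>
    mul_mem (norm_conj_mem (h.PL (h.SP (hsP w hw))) htL) (inv_mem htL)
  -- the commutators with `v` are the same
  have hcv : ∀ w ∈ (MulAut.conj s • WW V F : Subgroup G),
      (g⁻¹ * w * g) * v * (g⁻¹ * w * g)⁻¹ * v⁻¹ =
        (g⁻¹ * (q * w * q⁻¹) * g) * v * (g⁻¹ * (q * w * q⁻¹) * g)⁻¹ * v⁻¹ := fun w hw => by
    have h1 := hqL _ (hwt w hw)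
    have h2 := hqL t htL
    have h3 : q * w * q⁻¹ * t * (q * w * q⁻¹)⁻¹ * t⁻¹ = w * t * w⁻¹ * t⁻¹ := by
      calc q * w * q⁻¹ * t * (q * w * q⁻¹)⁻¹ * t⁻¹
          = q * w * q⁻¹ * (q * t * q⁻¹) * (q * w * q⁻¹)⁻¹ * (q * t * q⁻¹)⁻¹ := by rw [h2]
        _ = q * (w * t * w⁻¹ * t⁻¹) * q⁻¹ := by group
        _ = w * t * w⁻¹ * t⁻¹ := h1
    calc (g⁻¹ * w * g) * v * (g⁻¹ * w * g)⁻¹ * v⁻¹ = g⁻¹ * (w * t * w⁻¹ * t⁻¹) * g := by rw [hv]; group
      _ = g⁻¹ * (q * w * q⁻¹ * t * (q * w * q⁻¹)⁻¹ * t⁻¹) * g := by rw [h3]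
      _ = _ := by rw [hv]; group
  have memcomm : ∀ (X : Subgroup G), ∀ a ∈ X, ∀ x ∈ L, a * x * a⁻¹ * x⁻¹ ∈ ⁅L, X⁆ := fun X a ha x hx => by
    have h1 := inv_mem (commutator_mem_commutator hx ha)
    have e : ⁅x, a⁆⁻¹ = a * x * a⁻¹ * x⁻¹ := by rw [commutatorElement_def]; group
    rwa [e] at h1
  have heq : ⁅L, A⁆ = ⁅L, A'⁆ := by
    apply le_antisymm
    · intro y hy
      obtain ⟨a, ha, rfl⟩ := h.rt.surj A mA v hvL hvA y hy
      have h1 := hcv _ (ofA a ha)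
      have e : g⁻¹ * (g * a * g⁻¹) * g = a := by group
      rw [e] at h1
      rw [h1]
      exact memcomm A' _ (memA' _ (ofA a ha)) v hvL
    · intro y hy
      obtain ⟨a, ha, rfl⟩ := h.rt.surj A' mA' v hvL hvA' y hy
      have h1 := hcv _ (ofA' a ha)
      have e : g⁻¹ * (q * (q⁻¹ * (g * a * g⁻¹) * q) * q⁻¹) * g = a := by group
      rw [e] at h1
      rw [← h1]
      exact memcomm A _ (memA _ (ofA' a ha)) v hvL
  -- `w` and `w^q` act on `L^g` in the same way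
  have hact : ∀ w ∈ (MulAut.conj s • WW V F : Subgroup G), ∀ x ∈ MulAut.conj g • L,
      w * x * w⁻¹ = (q * w * q⁻¹) * x * (q * w * q⁻¹)⁻¹ := by
    intro w hw x hx
    obtain ⟨a, ha, h1⟩ := h.rt.same A' A mA' mA heq.symm _ (memA' w hw)
    have h2 := hcv w hw
    have h3 := h1 v hvL
    have h4 : (g⁻¹ * w * g) * v * (g⁻¹ * w * g)⁻¹ = a * v * a⁻¹ := by
      rw [← h3]
      exact mul_right_cancel h2
    have h5 : a⁻¹ * (g⁻¹ * w * g) ∈ centralizer (L : Set G) := by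
      refine h.rt.inj A mA v hvL hvA _ (mul_mem (inv_mem ha) (memA w hw)) ?_
      calc a⁻¹ * (g⁻¹ * w * g) * v
          = a⁻¹ * ((g⁻¹ * w * g) * v * (g⁻¹ * w * g)⁻¹) * (g⁻¹ * w * g) := by group
        _ = a⁻¹ * (a * v * a⁻¹) * (g⁻¹ * w * g) := by rw [h4]
        _ = v * (a⁻¹ * (g⁻¹ * w * g)) := by group
    have hx' : g⁻¹ * x * g ∈ L := mem_conj.1 hx
    have h6 := mem_centralizer_iff.1 h5 _ hx'
    have h7 : (g⁻¹ * w * g) * (g⁻¹ * x * g) * (g⁻¹ * w * g)⁻¹ = a * (g⁻¹ * x * g) * a⁻¹ := by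
      calc (g⁻¹ * w * g) * (g⁻¹ * x * g) * (g⁻¹ * w * g)⁻¹
          = a * (a⁻¹ * (g⁻¹ * w * g) * (g⁻¹ * x * g)) * (g⁻¹ * w * g)⁻¹ := by group
        _ = a * (g⁻¹ * x * g * (a⁻¹ * (g⁻¹ * w * g))) * (g⁻¹ * w * g)⁻¹ := by rw [h6]
        _ = a * (g⁻¹ * x * g) * a⁻¹ := by group
    calc w * x * w⁻¹ = g * ((g⁻¹ * w * g) * (g⁻¹ * x * g) * (g⁻¹ * w * g)⁻¹) * g⁻¹ := by group
      _ = g * ((g⁻¹ * (q * w * q⁻¹) * g) * (g⁻¹ * x * g) * (g⁻¹ * (q * w * q⁻¹) * g)⁻¹) * g⁻¹ := by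
          rw [h7, h1 _ hx']
      _ = (q * w * q⁻¹) * x * (q * w * q⁻¹)⁻¹ := by group
  -- the end
  rw [mem_centralizer_iff]
  intro w hw
  have hlq : q * l * q⁻¹ ∈ MulAut.conj g • L := norm_conj_mem (h.Q_norm hg hq) hl
  -- `[w, l] ∈ L`
  have hwl : w * l * w⁻¹ * l⁻¹ ∈ L := by
    have h1 := memcomm A _ (memA w hw) _ (mem_conj.1 hl)
    obtain ⟨a, ha, h2⟩ := h.rt.surj A mA v hvL hvA _ h1
    have h3 := hwt _ (ofA a ha)
    have e : (g * a * g⁻¹) * t * (g * a * g⁻¹)⁻¹ * t⁻¹ = w * l * w⁻¹ * l⁻¹ := by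
      calc (g * a * g⁻¹) * t * (g * a * g⁻¹)⁻¹ * t⁻¹ = g * (a * v * a⁻¹ * v⁻¹) * g⁻¹ := by rw [hv]; group
        _ = w * l * w⁻¹ * l⁻¹ := by rw [h2]; group
    rwa [e] at h3
  have h1 := hqL _ hwl
  have h2 : w * (q * l * q⁻¹) * w⁻¹ * (q * l * q⁻¹)⁻¹ = w * l * w⁻¹ * l⁻¹ := by
    rw [hact w hw _ hlq, ← h1]
    group
  have hlV := h.conjLV hg hl
  have hlqV := h.conjLV hg hlq
  have hwV : w ∈ normalizer (V : Set G) := h.PV (h.SP (hsP w hw))
  have h3 : w * l * w⁻¹ * (q * l * q⁻¹) = (q * l * q⁻¹) * (w * l * w⁻¹) :=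
    h.toHyp.V_comm (norm_conj_mem hwV hlV) hlqV
  have h4 : w * (q * l * q⁻¹) * w⁻¹ = w * l * w⁻¹ * (l⁻¹ * (q * l * q⁻¹)) := by
    calc w * (q * l * q⁻¹) * w⁻¹ = w * (q * l * q⁻¹) * w⁻¹ * (q * l * q⁻¹)⁻¹ * (q * l * q⁻¹) := by group
      _ = w * l * w⁻¹ * l⁻¹ * (q * l * q⁻¹) := by rw [h2]
      _ = w * l * w⁻¹ * (l⁻¹ * (q * l * q⁻¹)) := by group
  have h5 : w * ((q * l * q⁻¹)⁻¹ * l) * w⁻¹ = (q * l * q⁻¹)⁻¹ * l := by
    calc w * ((q * l * q⁻¹)⁻¹ * l) * w⁻¹ = (w * (q * l * q⁻¹) * w⁻¹)⁻¹ * (w * l * w⁻¹) := by group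
      _ = (w * l * w⁻¹ * (l⁻¹ * (q * l * q⁻¹)))⁻¹ * (w * l * w⁻¹) := by rw [h4]
      _ = (q * l * q⁻¹)⁻¹ * l * ((w * l * w⁻¹)⁻¹ * (w * l * w⁻¹)) := by group
      _ = (q * l * q⁻¹)⁻¹ * l := by rw [inv_mul_cancel, mul_one]
  calc w * ((q * l * q⁻¹)⁻¹ * l) = w * ((q * l * q⁻¹)⁻¹ * l) * w⁻¹ * w := by group
    _ = (q * l * q⁻¹)⁻¹ * l * w := by rw [h5]

end Sit

end Cfsg.Agent.Omega.NO3S.NTwo

end

section


/-!
# THEOREM N (#21337), CASE 2: all lines `L^(g p)`, `g ∈ P'`, are in `I`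

`Gn` : a generic `p ∈ P`; `Sit.norm_of_good` : then `P'` normalises `L`.
-/

set_option autoImplicit false
set_option linter.unusedSectionVars false

namespace Cfsg.Agent.Omega.NO3S.NTwo

open Subgroup Cfsg Cfsg.Agent.Omega.NoFF.Basic
open Cfsg.Agent.Omega.NOne.Flat (Hyp EE WW NN BadX)
open Cfsg.Agent.Omega.NOThreeL.Low.Key (BH conj_eq_of_norm' norm_conj_mem c_eq_one' comm_of_c c_mem_left)
open Cfsg.Agent.Omega.NOThreeL.NF (MinOffM RP)
open Cfsg.Agent.Omega.NO3S.Pas (mem_sup_of_norm)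
open Cfsg.Agent.Omega.FFThm (ElemM OffM)
open Cfsg.Agent.ZN (o2)
open scoped Pointwise commutatorElement

universe u

local notation "cm" => Cfsg.Agent.Omega.NOne.NearFF.c

variable {G : Type u} [Group G]

/-- a generic `p ∈ P` for `W = WW V F` (633's `Gnr`) -/
structure Gn (S V F P L : Subgroup G) (p : G) : Prop where
  mem : p ∈ P
  gen : P ≤ S ⊔ MulAut.conj p⁻¹ • WW V F
  dis : ∀ x ∈ L, (∀ s ∈ S, MulAut.conj s • WW V F ≤ centralizer ({x} : Set G)) →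
    p * x * p⁻¹ ∈ ⁅L, WW V F⁆ → x = 1

theorem norm_of_conj_mem' {A : Subgroup G} {x : G} (h1 : ∀ a ∈ A, x * a * x⁻¹ ∈ A)
    (h2 : ∀ a ∈ A, x⁻¹ * a * x ∈ A) : x ∈ normalizer (A : Set G) := by
  rw [mem_normalizer_iff]
  intro a
  refine ⟨h1 a, fun ha => ?_⟩
  have h3 := h2 _ ha
  have e : x⁻¹ * (x * a * x⁻¹) * x = a := by group
  rwa [e] at h3

namespace Sit

variable {S V F B P P' L : Subgroup G} (h : Sit S V F B P P' L)
include h

/-- `[I, W] ≤ [L, W]` -/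
theorem c_mem_LW {r s : G} (hr : r ∈ V ⊓ B) (hs : s ∈ WW V F) : cm r s ∈ ⁅L, WW V F⁆ := by
  obtain ⟨l, hl, hlr⟩ := h.I_eq r hr
  have e : r = l * (l⁻¹ * r) := by group
  have h1 : cm r s = cm l s := by
    conv_lhs => rw [e]
    rw [h.toHyp.c_mul_left (h.LV hl) (h.toHyp.F_le_V hlr) hs, Hyp.c_F hlr hs, mul_one]
  rw [h1]
  exact commutator_mem_commutator hl hs

theorem LW_le : ⁅L, WW V F⁆ ≤ L := by
  rw [commutator_le]
  intro l hl s hs
  have h1 := c_mem_left hl (h.PL (h.SP (h.WS hs)))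
  exact h1

/-- `U' = ⟨L^(P')⟩` -/
def U (_h : Sit S V F B P P' L) : Subgroup G := ⨆ x : P', MulAut.conj (x : G) • L

theorem conj_le_U {x : G} (hx : x ∈ P') : MulAut.conj x • L ≤ h.U :=
  le_iSup (fun x : P' => MulAut.conj (x : G) • L) ⟨x, hx⟩

theorem U_le {A : Subgroup G} (h1 : ∀ x ∈ P', MulAut.conj x • L ≤ A) : h.U ≤ A := iSup_le fun x => h1 x x.2

theorem L_le_U : L ≤ h.U := by
  have := h.conj_le_U (one_mem P')
  rwa [map_one, one_smul] at this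

theorem U_le_V : h.U ≤ V := h.U_le fun _ hx => h.conjLV hx

theorem U_le_B : h.U ≤ B := h.U_le fun _ hx => h.LB _ hx

theorem conj_mem_U {y u : G} (hy : y ∈ P') (hu : u ∈ h.U) : y * u * y⁻¹ ∈ h.U := by
  have h1 : h.U ≤ MulAut.conj y⁻¹ • h.U := h.U_le fun x hx => by
    have h2 := (conj_le_iff (g := y⁻¹)).2 (h.conj_le_U (mul_mem hy hx))
    rwa [conj_conj, inv_mul_cancel_left] at h2
  have h2 := mem_conj.1 (h1 hu)
  rwa [inv_inv] at h2

theorem P'_norm_U : P' ≤ normalizer (h.U : Set G) := fun y hy =>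
  norm_of_conj_mem' (fun _ ha => h.conj_mem_U hy ha) fun a ha => by
    have := h.conj_mem_U (inv_mem hy) ha
    rwa [inv_inv] at this

variable {p : G} (hp : Gn S V F P L p)
  (hgood : ∀ g ∈ P', MulAut.conj (p * g) • L ≤ B)
include hp hgood

theorem conjp_U {u : G} (hu : u ∈ h.U) : p * u * p⁻¹ ∈ V ⊓ B := by
  refine ⟨norm_conj_mem (h.PV hp.mem) (h.U_le_V hu), ?_⟩
  have h1 : h.U ≤ MulAut.conj p⁻¹ • B := h.U_le fun x hx => by
    have h2 := (conj_le_iff (g := p⁻¹)).2 (hgood x hx)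
    rwa [conj_conj, inv_mul_cancel_left] at h2
  have h2 := mem_conj.1 (h1 hu)
  rwa [inv_inv] at h2

/-- `[U', W^(p⁻¹)] ≤ L` -/
theorem comm_mem_L {u s : G} (hu : u ∈ h.U) (hs : s ∈ MulAut.conj p⁻¹ • WW V F) :
    s * u * s⁻¹ * u⁻¹ ∈ L := by
  have hs' : p * s * p⁻¹ ∈ WW V F := by
    have := mem_conj.1 hs
    rwa [inv_inv] at this
  have h1 := inv_mem (h.LW_le (h.c_mem_LW (h.conjp_U hp hgood hu) hs'))
  have h2 := norm_conj_mem (h.PL (inv_mem hp.mem)) h1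
  have e : p⁻¹ * (cm (p * u * p⁻¹) (p * s * p⁻¹))⁻¹ * p⁻¹⁻¹ = s * u * s⁻¹ * u⁻¹ := by
    rw [NOne.NearFF.c]; group
  rwa [e] at h2

theorem P_norm_U : P ≤ normalizer (h.U : Set G) := by
  refine hp.gen.trans (sup_le (h.SP'.trans h.P'_norm_U) ?_)
  intro s hs
  have key : ∀ s ∈ MulAut.conj p⁻¹ • WW V F, ∀ a ∈ h.U, s * a * s⁻¹ ∈ h.U := by
    intro s hs a ha
    have h1 := h.comm_mem_L hp hgood ha hs
    have e : s * a * s⁻¹ = s * a * s⁻¹ * a⁻¹ * a := by group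
    rw [e]
    exact mul_mem (h.L_le_U h1) ha
  refine norm_of_conj_mem' (key s hs) fun a ha => ?_
  have := key _ (inv_mem hs) a ha
  rwa [inv_inv] at this

/-- the elements of `P` which centralise `U' / L` -/
def KK : Subgroup G where
  carrier := {n | n ∈ P ∧ ∀ u ∈ h.U, n * u * n⁻¹ * u⁻¹ ∈ L}
  mul_mem' := by
    rintro a b ⟨ha, ha'⟩ ⟨hb, hb'⟩
    refine ⟨mul_mem ha hb, fun u hu => ?_⟩
    have h1 := norm_conj_mem (h.PL ha) (hb' u hu)
    have e : a * b * u * (a * b)⁻¹ * u⁻¹ = a * (b * u * b⁻¹ * u⁻¹) * a⁻¹ * (a * u * a⁻¹ * u⁻¹) := by group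
    rw [e]
    exact mul_mem h1 (ha' u hu)
  one_mem' := ⟨one_mem _, fun u _ => by
    rw [one_mul, inv_one, mul_one, mul_inv_cancel]
    exact one_mem _⟩
  inv_mem' := by
    rintro a ⟨ha, ha'⟩
    refine ⟨inv_mem ha, fun u hu => ?_⟩
    have hu' : a⁻¹ * u * a⁻¹⁻¹ ∈ h.U := norm_conj_mem (h.P_norm_U hp hgood (inv_mem ha)) hu
    have h1 := inv_mem (ha' _ hu')
    have e : (a * (a⁻¹ * u * a⁻¹⁻¹) * a⁻¹ * (a⁻¹ * u * a⁻¹⁻¹)⁻¹)⁻¹ = a⁻¹ * u * a⁻¹⁻¹ * u⁻¹ := by group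
    rwa [e] at h1

local notation "K" => KK h hp hgood

theorem KK_le : K ≤ P := fun _ hn => hn.1

theorem P_norm_KK : P ≤ normalizer (K : Set G) := by
  have key : ∀ t ∈ P, ∀ n ∈ K, t * n * t⁻¹ ∈ K := by
    rintro t ht n ⟨hn, hn'⟩
    refine ⟨mul_mem (mul_mem ht hn) (inv_mem ht), fun u hu => ?_⟩
    have hu' : t⁻¹ * u * t⁻¹⁻¹ ∈ h.U := norm_conj_mem (h.P_norm_U hp hgood (inv_mem ht)) hu
    have h1 := norm_conj_mem (h.PL ht) (hn' _ hu')
    have e : t * (n * (t⁻¹ * u * t⁻¹⁻¹) * n⁻¹ * (t⁻¹ * u * t⁻¹⁻¹)⁻¹) * t⁻¹ =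
        t * n * t⁻¹ * u * (t * n * t⁻¹)⁻¹ * u⁻¹ := by group
    rwa [e] at h1
  intro t ht
  exact norm_of_conj_mem' (key t ht) fun a ha => by
    have := key _ (inv_mem ht) a ha
    rwa [inv_inv] at this

theorem conjW_le_KK : MulAut.conj p⁻¹ • WW V F ≤ K := by
  intro s hs
  refine ⟨?_, fun u hu => h.comm_mem_L hp hgood hu hs⟩
  have h1 := h.SP (h.WS (mem_conj.1 hs))
  have e : s = p⁻¹ * (p⁻¹⁻¹ * s * p⁻¹) * p := by group
  rw [e]
  exact mul_mem (mul_mem (inv_mem hp.mem) h1) hp.mem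

theorem conj_mem_KK {t n : G} (ht : t ∈ P) (hn : n ∈ K) : t * n * t⁻¹ ∈ K :=
  norm_conj_mem (h.P_norm_KK hp hgood ht) hn

theorem W_le_KK : WW V F ≤ K := by
  intro s hs
  have h1 := h.conjW_le_KK hp hgood (mem_conj_smul (g := p⁻¹) hs)
  have h2 := h.conj_mem_KK hp hgood hp.mem h1
  have e : p * (p⁻¹ * s * p⁻¹⁻¹) * p⁻¹ = s := by group
  rwa [e] at h2

/-- `P = K S` -/
theorem decomp {x : G} (hx : x ∈ P) : ∃ n ∈ K, ∃ s ∈ S, n * s = x := by
  have h1 : P ≤ K ⊔ S := hp.gen.trans (sup_le le_sup_right ((h.conjW_le_KK hp hgood).trans le_sup_left))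
  exact mem_sup_of_norm (h.SP.trans (h.P_norm_KK hp hgood)) (h1 hx)

/-- `[u^n, q^n] = [u, q^n]` for `n ∈ K` -/
theorem conj_c {n u q : G} (hn : n ∈ K) (hu : u ∈ h.U) (hq : q ∈ S ⊓ centralizer (L : Set G)) :
    n * cm u q * n⁻¹ = cm u (n * q * n⁻¹) := by
  have hq' : n * q * n⁻¹ ∈ S ⊓ centralizer (L : Set G) := norm_conj_mem (h.PQ hn.1) hq
  have hl := hn.2 u hu
  set l : G := n * u * n⁻¹ * u⁻¹ with hl'
  have e1 : n * cm u q * n⁻¹ = cm (l * u) (n * q * n⁻¹) := by rw [NOne.NearFF.c, NOne.NearFF.c, hl']; group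
  have e2 : cm (l * u) (n * q * n⁻¹) = l * cm u (n * q * n⁻¹) * (n * q * n⁻¹ * l⁻¹ * (n * q * n⁻¹)⁻¹) := by
    rw [NOne.NearFF.c, NOne.NearFF.c]; group
  have e3 : n * q * n⁻¹ * l⁻¹ * (n * q * n⁻¹)⁻¹ = l⁻¹ := by
    rw [← mem_centralizer_iff.1 hq'.2 _ (inv_mem hl), mul_inv_cancel_right]
  have hcV : cm u (n * q * n⁻¹) ∈ V := c_mem_left (h.U_le_V hu) (h.PV (h.SP hq'.1))
  rw [e1, e2, e3, h.toHyp.V_comm (h.LV hl) hcV, mul_inv_cancel_right]

theorem c_eq' {u q : G} (hu : u ∈ V) (hq : q ∈ S) : cm u q = (q * u * q⁻¹)⁻¹ * u := by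
  have h1 : q * u * q⁻¹ ∈ V := norm_conj_mem (h.PV (h.SP hq)) hu
  have e : cm u q = u * (q * u * q⁻¹)⁻¹ := by rw [NOne.NearFF.c]; group
  rw [e, h.toHyp.V_comm hu (inv_mem h1)]

/-- **CASE 2**: `D_u ∩ L = 1` -/
theorem D_inf {g u : G} (hg : g ∈ P') (hu : u ∈ MulAut.conj g • L) {t : G}
    (ht : t ∈ closure {y | ∃ q ∈ S ⊓ centralizer (L : Set G), y = cm u q}) (htL : t ∈ L) : t = 1 := by
  set D : Subgroup G := closure {y | ∃ q ∈ S ⊓ centralizer (L : Set G), y = cm u q} with hD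
  have huU : u ∈ h.U := h.conj_le_U hg hu
  have hDg : D ≤ MulAut.conj g • L := by
    rw [hD, closure_le]
    rintro y ⟨q, hq, rfl⟩
    exact c_mem_left hu (h.Q_norm hg hq)
  have hKD : ∀ n ∈ K, ∀ d ∈ D, n * d * n⁻¹ ∈ D := by
    intro n hn d hd
    induction hd using closure_induction with
    | mem y hy =>
      obtain ⟨q, hq, rfl⟩ := hy
      rw [h.conj_c hp hgood hn huU hq]
      exact subset_closure ⟨_, norm_conj_mem (h.PQ hn.1) hq, rfl⟩
    | one => rw [mul_one, mul_inv_cancel]; exact one_mem _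
    | mul x y _ _ hx hy =>
      have e : n * (x * y) * n⁻¹ = n * x * n⁻¹ * (n * y * n⁻¹) := by group
      rw [e]
      exact mul_mem hx hy
    | inv x _ hx =>
      have e : n * x⁻¹ * n⁻¹ = (n * x * n⁻¹)⁻¹ := by group
      rw [e]
      exact inv_mem hx
  -- a moved element gives a contradiction
  have key : ∀ t ∈ D, t ∈ L → ∀ s ∈ S, t ∈ centralizer ((MulAut.conj s • WW V F : Subgroup G) : Set G) := by
    intro t ht htL s hs
    by_contra hne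
    refine hne ?_
    have h1 : D ≤ centralizer ((MulAut.conj s • WW V F : Subgroup G) : Set G) := by
      rw [hD, closure_le]
      rintro y ⟨q, hq, rfl⟩
      rw [SetLike.mem_coe, h.c_eq' hp hgood (h.conjLV hg hu) hq.1]
      exact h.cent_c hg hs htL (hDg ht) hne hq hu
    exact h1 ht
  by_contra hne
  -- `Y = C_L(⟨W^P⟩)`
  set Y : Subgroup G := L ⊓ centralizer ((⨆ x : P, MulAut.conj (x : G) • WW V F : Subgroup G) : Set G) with hY
  have hYmem : ∀ y, y ∈ Y ↔ y ∈ L ∧ ∀ x ∈ P, ∀ w ∈ WW V F, x * w * x⁻¹ * y = y * (x * w * x⁻¹) := by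
    intro y
    rw [hY, mem_inf]
    refine and_congr_right fun _ => ⟨fun h1 x hx w hw => ?_, fun h1 => ?_⟩
    · refine mem_centralizer_iff.1 h1 _ ?_
      exact (le_iSup (fun x : P => MulAut.conj (x : G) • WW V F) ⟨x, hx⟩) (mem_conj_smul hw)
    · have h2 : (⨆ x : P, MulAut.conj (x : G) • WW V F : Subgroup G) ≤ centralizer ({y} : Set G) := by
        refine iSup_le fun x w hw => ?_
        rw [mem_centralizer_iff]
        rintro _ rfl
        have h3 := h1 x x.2 _ (mem_conj.1 hw)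
        have e : (x : G) * ((x : G)⁻¹ * w * x) * (x : G)⁻¹ = w := by group
        rw [e] at h3
        exact h3.symm
      rw [mem_centralizer_iff]
      intro w hw
      exact (mem_centralizer_iff.1 (h2 hw) y rfl).symm
  have htY : t ∈ Y := by
    rw [hYmem]
    refine ⟨htL, fun x hx w hw => ?_⟩
    obtain ⟨n, hn, s, hs, rfl⟩ := h.decomp hp hgood hx
    have h1 : n⁻¹ * t * n⁻¹⁻¹ ∈ D := hKD _ (inv_mem hn) t ht
    have h2 : n⁻¹ * t * n⁻¹⁻¹ ∈ L := norm_conj_mem (h.PL (inv_mem hn.1)) htL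
    have h3 := mem_centralizer_iff.1 (key _ h1 h2 s hs) _ (mem_conj_smul (g := s) hw)
    calc n * s * w * (n * s)⁻¹ * t = n * (s * w * s⁻¹ * (n⁻¹ * t * n⁻¹⁻¹)) * n⁻¹ := by group
      _ = n * (n⁻¹ * t * n⁻¹⁻¹ * (s * w * s⁻¹)) * n⁻¹ := by rw [h3]
      _ = t * (n * s * w * (n * s)⁻¹) := by group
  have hYne : Y ≠ ⊥ := fun h1 => hne (by rwa [h1, mem_bot] at htY)
  have hPY : P ≤ normalizer (Y : Set G) := by
    have key2 : ∀ x ∈ P, ∀ y ∈ Y, x * y * x⁻¹ ∈ Y := by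
      intro x hx y hy
      rw [hYmem] at hy ⊢
      refine ⟨norm_conj_mem (h.PL hx) hy.1, fun x' hx' w hw => ?_⟩
      have h1 := hy.2 (x⁻¹ * x') (mul_mem (inv_mem hx) hx') w hw
      calc x' * w * x'⁻¹ * (x * y * x⁻¹) = x * (x⁻¹ * x' * w * (x⁻¹ * x')⁻¹ * y) * x⁻¹ := by group
        _ = x * (y * (x⁻¹ * x' * w * (x⁻¹ * x')⁻¹)) * x⁻¹ := by rw [h1]
        _ = x * y * x⁻¹ * (x' * w * x'⁻¹) := by group
    intro x hx
    exact norm_of_conj_mem' (key2 x hx) fun a ha => by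
      have := key2 _ (inv_mem hx) a ha
      rwa [inv_inv] at this
  have hLY := h.irr Y (inf_le_left.trans h.LV) hPY hYne
  apply h.mov
  intro w hw
  rw [mem_centralizer_iff]
  intro l hl
  have h1 := ((hYmem l).1 (hLY hl)).2 1 (one_mem _) w hw
  rw [one_mul, inv_one, mul_one] at h1
  exact h1.symm

/-- **THEOREM N, CASE 2**: if all `L^(g p)` are good, then `P'` normalises `L`. -/
theorem norm_of_good : P' ≤ normalizer (L : Set G) := by
  set Q : Subgroup G := S ⊓ centralizer (L : Set G) with hQ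
  set Y : Subgroup G := closure {y | ∃ g ∈ P', ∃ u ∈ MulAut.conj g • L, ∃ q ∈ Q, y = cm u q} with hY
  have hYV : Y ≤ V := by
    rw [hY, closure_le]
    rintro y ⟨g, hg, u, hu, q, hq, rfl⟩
    exact c_mem_left (h.conjLV hg hu) (h.PV (h.SP hq.1))
  have hgen : ∀ g ∈ P', ∀ u ∈ MulAut.conj g • L, ∀ q ∈ Q, cm u q ∈ Y := fun g hg u hu q hq =>
    subset_closure ⟨g, hg, u, hu, q, hq, rfl⟩
  -- `K` centralises `Y`
  have hKY : ∀ n ∈ K, ∀ y ∈ Y, n * y * n⁻¹ = y := by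
    intro n hn y hy
    induction hy using closure_induction with
    | mem y hy =>
      obtain ⟨g, hg, u, hu, q, hq, rfl⟩ := hy
      have huU := h.conj_le_U hg hu
      have h1 : n * cm u q * n⁻¹ * (cm u q)⁻¹ = 1 := by
        refine h.D_inf hp hgood hg hu ?_ ?_
        · refine mul_mem ?_ (inv_mem (subset_closure ⟨q, hq, rfl⟩))
          rw [h.conj_c hp hgood hn huU hq]
          exact subset_closure ⟨_, norm_conj_mem (h.PQ hn.1) hq, rfl⟩
        · exact hn.2 _ (h.conj_le_U hg (c_mem_left hu (h.Q_norm hg hq)))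
      exact mul_inv_eq_one.1 h1
    | one => rw [mul_one, mul_inv_cancel]
    | mul x y _ _ hx hy =>
      have e : n * (x * y) * n⁻¹ = n * x * n⁻¹ * (n * y * n⁻¹) := by group
      rw [e, hx, hy]
    | inv x _ hx =>
      have e : n * x⁻¹ * n⁻¹ = (n * x * n⁻¹)⁻¹ := by group
      rw [e, hx]
  have hSY : ∀ s ∈ S, ∀ y ∈ Y, s * y * s⁻¹ ∈ Y := by
    intro s hs y hy
    induction hy using closure_induction with
    | mem y hy =>
      obtain ⟨g, hg, u, hu, q, hq, rfl⟩ := hy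
      have e : s * cm u q * s⁻¹ = cm (s * u * s⁻¹) (s * q * s⁻¹) := by
        rw [NOne.NearFF.c, NOne.NearFF.c]; group
      rw [e]
      refine hgen (s * g) (mul_mem (h.SP' hs) hg) _ ?_ _ (norm_conj_mem (h.PQ (h.SP hs)) hq)
      rw [← conj_conj]
      exact mem_conj_smul hu
    | one => rw [mul_one, mul_inv_cancel]; exact one_mem _
    | mul x y _ _ hx hy =>
      have e : s * (x * y) * s⁻¹ = s * x * s⁻¹ * (s * y * s⁻¹) := by group
      rw [e]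
      exact mul_mem hx hy
    | inv x _ hx =>
      have e : s * x⁻¹ * s⁻¹ = (s * x * s⁻¹)⁻¹ := by group
      rw [e]
      exact inv_mem hx
  have hPY : P ≤ normalizer (Y : Set G) := by
    have key2 : ∀ x ∈ P, ∀ y ∈ Y, x * y * x⁻¹ ∈ Y := by
      intro x hx y hy
      obtain ⟨n, hn, s, hs, rfl⟩ := h.decomp hp hgood hx
      have e : n * s * y * (n * s)⁻¹ = n * (s * y * s⁻¹) * n⁻¹ := by group
      rw [e, hKY n hn _ (hSY s hs y hy)]
      exact hSY s hs y hy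
    intro x hx
    exact norm_of_conj_mem' (key2 x hx) fun a ha => by
      have := key2 _ (inv_mem hx) a ha
      rwa [inv_inv] at this
  have hY1 : Y = ⊥ := by
    by_contra hne
    have h1 := h.irr Y hYV hPY hne
    apply h.mov
    intro w hw
    rw [mem_centralizer_iff]
    intro l hl
    have h2 := hKY w (h.W_le_KK hp hgood hw) l (h1 hl)
    calc l * w = w * l * w⁻¹ * w := by rw [h2]
      _ = w * l := by group
  -- `L^g ≤ C_V(Q) = L`
  have hle : ∀ g ∈ P', MulAut.conj g • L ≤ L := by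
    intro g hg u hu
    refine h.cvq (mem_inf.2 ⟨h.conjLV hg hu, mem_centralizer_iff.2 fun q hq => ?_⟩)
    have h1 := hgen g hg u hu q hq
    rw [hY1, mem_bot] at h1
    exact (comm_of_c h1).symm
  intro g hg
  refine norm_of_conj_mem' (fun a ha => hle g hg (mem_conj_smul ha)) fun a ha => ?_
  have h1 := hle g⁻¹ (inv_mem hg) (mem_conj_smul (g := g⁻¹) ha)
  rwa [inv_inv] at h1

end Sit

end Cfsg.Agent.Omega.NO3S.NTwo

end
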